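import Mathlib
import Cfsg.Agent.H14.M24d
import Cfsg.Agent.H14.Iso

/-!
# Fixed points, the small point stabilisers, and the simplicity of the five Mathieu groups
-/

set_option autoImplicit false

namespace Cfsg.Agent.H14

open MulAction
open scoped Pointwise

section Act

variable {G X : Type*} [Group G] [MulAction G X]

/-- the action of a subgroup on an invariant finite set. -/
def actHom (K : Subgroup G) (S : Finset X) (hS : ∀ g ∈ K, ∀ x ∈ S, g • x ∈ S) :
    K →* Equiv.Perm S where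
  toFun g :=
    { toFun := fun x => ⟨(g : G) • x.1, hS g g.2 x x.2⟩
      invFun := fun x => ⟨(g : G)⁻¹ • x.1, hS _ (K.inv_mem g.2) x x.2⟩
      left_inv := fun x => Subtype.ext (inv_smul_smul _ _)
      right_inv := fun x => Subtype.ext (smul_inv_smul _ _) }
  map_one' := Equiv.ext fun x => Subtype.ext (one_smul _ _)
  map_mul' a b := Equiv.ext fun x => Subtype.ext (mul_smul _ _ _)

theorem actHom_apply {K : Subgroup G} {S : Finset X} {hS : ∀ g ∈ K, ∀ x ∈ S, g • x ∈ S} (g : K)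
    (x : S) : (actHom K S hS g x : X) = (g : G) • (x : X) := rfl

theorem mem_ker_actHom {K : Subgroup G} {S : Finset X} {hS : ∀ g ∈ K, ∀ x ∈ S, g • x ∈ S}
    {g : K} : g ∈ (actHom K S hS).ker ↔ ∀ x ∈ S, (g : G) • x = x :=
  ⟨fun h x hx => congrArg Subtype.val (DFunLike.congr_fun (MonoidHom.mem_ker.mp h) (⟨x, hx⟩ : S)),
    fun h => Equiv.ext fun x => Subtype.ext (h x x.2)⟩

theorem card_ker_actHom {K L : Subgroup G} {S : Finset X} {hS : ∀ g ∈ K, ∀ x ∈ S, g • x ∈ S}
    (hL : ∀ g, g ∈ L ↔ g ∈ K ∧ ∀ x ∈ S, g • x = x) :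
    Nat.card (actHom K S hS).ker = Nat.card L :=
  Nat.card_congr ⟨fun g => ⟨g.1, (hL _).mpr ⟨g.1.2, mem_ker_actHom.mp g.2⟩⟩,
    fun g => ⟨⟨g.1, ((hL _).mp g.2).1⟩, mem_ker_actHom.mpr ((hL _).mp g.2).2⟩, fun _ => rfl,
    fun _ => rfl⟩

theorem card_range_actHom {K L : Subgroup G} {S : Finset X} {hS : ∀ g ∈ K, ∀ x ∈ S, g • x ∈ S}
    (hL : ∀ g, g ∈ L ↔ g ∈ K ∧ ∀ x ∈ S, g • x = x) :
    Nat.card L * Nat.card (actHom K S hS).range = Nat.card K := by
  rw [← card_ker_actHom (hS := hS) hL, ← Subgroup.index_ker, Subgroup.card_mul_index]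

theorem card_perm_finset [DecidableEq X] (S : Finset X) :
    Nat.card (Equiv.Perm S) = S.card.factorial := by
  rw [Nat.card_perm, Nat.card_eq_fintype_card, Fintype.card_coe]

/-- all permutations of `S` are induced, by counting. -/
theorem induces_all [DecidableEq X] [Finite G] {K L : Subgroup G} {S : Finset X}
    (hS : ∀ g ∈ K, ∀ x ∈ S, g • x ∈ S) (hL : ∀ g, g ∈ L ↔ g ∈ K ∧ ∀ x ∈ S, g • x = x)
    (h : Nat.card L * S.card.factorial ≤ Nat.card K) (e : Equiv.Perm S) :
    ∃ g ∈ K, ∀ x : S, g • (x : X) = e x := by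
  rw [← card_range_actHom (hS := hS) hL, ← card_perm_finset] at h
  have := Subgroup.eq_top_of_le_card _ (Nat.le_of_mul_le_mul_left h Nat.card_pos)
  obtain ⟨g, rfl⟩ := MonoidHom.range_eq_top.mp this e
  exact ⟨g, g.2, fun _ => rfl⟩

theorem card_of_induces_all [DecidableEq X] {K L : Subgroup G} {S : Finset X}
    (hS : ∀ g ∈ K, ∀ x ∈ S, g • x ∈ S) (hL : ∀ g, g ∈ L ↔ g ∈ K ∧ ∀ x ∈ S, g • x = x)
    (h : ∀ e : Equiv.Perm S, ∃ g ∈ K, ∀ x : S, g • (x : X) = e x) :
    Nat.card K = Nat.card L * S.card.factorial := by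
  rw [← card_range_actHom (hS := hS) hL, ← card_perm_finset, MonoidHom.range_eq_top.mpr,
    Subgroup.card_top]
  intro e
  obtain ⟨g, hg, h⟩ := h e
  exact ⟨⟨g, hg⟩, Equiv.ext fun x => Subtype.ext (h x)⟩

theorem smul_mem_of_stab [DecidableEq X] {S : Finset X} {g : G} (hg : g ∈ stabilizer G S) {x : X}
    (hx : x ∈ S) : g • x ∈ S := mem_stabilizer_iff.mp hg ▸ Finset.smul_mem_smul_finset hx

theorem smul_not_mem_of_stab [DecidableEq X] {S : Finset X} {g : G} (hg : g ∈ stabilizer G S)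
    {x : X} (hx : x ∉ S) : g • x ∉ S := fun h =>
  hx (by simpa using smul_mem_of_stab (Subgroup.inv_mem _ hg) h)

theorem smul_finset_of_fix [DecidableEq X] {S : Finset X} {g : G} (h : ∀ x ∈ S, g • x = x) :
    g • S = S := by
  rw [Finset.smul_finset_def, Finset.image_congr (g := id) fun x hx => h x hx, Finset.image_id]

/-- subgroups conjugate by an element of the group. -/
def conjEquiv (k : G) {K L : Subgroup G} (h : ∀ g, g ∈ K ↔ k * g * k⁻¹ ∈ L) : K ≃* L where
  toFun g := ⟨k * g * k⁻¹, (h g).mp g.2⟩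
  invFun g := ⟨k⁻¹ * g * k, (h _).mpr (by simp [mul_assoc])⟩
  left_inv g := Subtype.ext (by simp [mul_assoc])
  right_inv g := Subtype.ext (by simp [mul_assoc])
  map_mul' a b := Subtype.ext (by simp [mul_assoc])

theorem conj_smul_smul (k g : G) (x : X) : (k * g * k⁻¹) • k • x = k • g • x := by
  simp only [mul_smul, inv_smul_smul]

theorem conj_fix_iff (k g : G) (x : X) : (k * g * k⁻¹) • k • x = k • x ↔ g • x = x := by
  rw [conj_smul_smul, smul_left_cancel_iff]

theorem conj_mem_stabilizer_iff (k g : G) (x : X) :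
    k * g * k⁻¹ ∈ stabilizer G (k • x) ↔ g ∈ stabilizer G x := conj_fix_iff k g x

/-- a subgroup of a subgroup `M`, seen in the big group. -/
def subEquiv {M : Subgroup G} {K : Subgroup M} {L : Subgroup G} (hL : L ≤ M)
    (h : ∀ g : M, g ∈ K ↔ (g : G) ∈ L) : K ≃* L where
  toFun g := ⟨g.1, (h _).mp g.2⟩
  invFun g := ⟨⟨g, hL g.2⟩, (h _).mpr g.2⟩
  left_inv _ := rfl
  right_inv _ := rfl
  map_mul' _ _ := rfl

end Act

/-- the stabiliser of `∞, 0, 1, 2, 3, 5`. -/
noncomputable def S18 : CSub A24 :=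
  S19.stab A24.toModel A24.compat_self 5 25
    [(4, [0xbcc8cb2a265b8f47c9096c0b518820, 0xba64d4562f83a87312d362caa18820,
    0xb9e086be3593a6952d94b10a618820, 0xbbd8459e29b39559b606920b418820])]
    16 (by decide : 5 < 24) (by decide +kernel)

/-- the stabiliser of `∞, 0, 1, 2, 3, 4`. -/
noncomputable def S6n : CSub A24 :=
  S19.stab A24.toModel A24.compat_self 4 25
    [(5, [0xbb5135bdd63160aa1ea964a2418820])]
    3 (by decide : 4 < 24) (by decide +kernel)

/-- the stabiliser of `d0, 0, 1`. -/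
noncomputable def SD1 : CSub A24 :=
  (SD0s.stab A24.toModel A24.compat_self 1 25
    [(2, [0x3c67429948755245dd92b0de283420]), (3, [0xb2e8e991437d4cdb9e508b0a940820]), (4,
    [0x8aa6fa22f2a96093ac8db31c618820, 0x2bd47b11c65c5929d209aa2ed18820])]
    720 (by decide : 1 < 24) (by decide +kernel)).copy
    (stabilizer M24 d0 ⊓ stabilizer M24 (some 0 : GolayPt) ⊓ stabilizer M24 (some 1 : GolayPt)) rfl

/-- the stabiliser of `d0, 0, 1, 2`. -/
noncomputable def SD2 : CSub A24 :=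
  (SD1.stab A24.toModel A24.compat_self 2 25
    [(3, [0xb2eb42b4e99b870bc584521e690820]), (4, [0x2ccea5b1c9b448d7d506a42f218820,
    0x89df3ac2eda150655992591c918820])]
    72 (by decide : 2 < 24) (by decide +kernel)).copy
    (stabilizer M24 d0 ⊓ stabilizer M24 (some 0 : GolayPt) ⊓ stabilizer M24 (some 1 : GolayPt) ⊓
      stabilizer M24 (some 2 : GolayPt)) rfl

/-- the stabiliser of `d0, 0, 1, 2, 3`. -/
noncomputable def SD3 : CSub A24 :=
  SD2.stab A24.toModel A24.compat_self 3 25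
    [(4, [0x752cb3a4a455cd0acdac7ca2818820, 0x2bd47b11c65c5929d209aa2ed18820])]
    8 (by decide : 3 < 24) (by decide +kernel)

/-- the stabiliser of `d0, 0, 1, 2, 3, 4`. -/
noncomputable def SD4 : CSub A24 :=
  SD3.stab A24.toModel A24.compat_self 4 25
    []
    1 (by decide : 4 < 24) (by decide +kernel)

/-- the stabiliser of `d0` and of the pair `{0, 1}`. -/
noncomputable def SDp : CSub A24 :=
  SDs.stab m3 compat_m3 3 67
    [(0, [0xa3ee7b0dcc52e02acd0d29a244c801]), (2, [0xb5df32a144ad04c3ae468a5cd1c020]), (3,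
    [0xad2eb3b0ad8da5073c899994340820]), (4, [0x2bd47b11c65c5929d209aa2ed18820,
    0x752cb3a4a455cd0acdac7ca2818820])]
    1440 (V_m3 (by decide +kernel)) (by decide +kernel)

/-- the stabiliser of `d0, 0, ∞`. -/
noncomputable def SD0n : CSub A24 :=
  (SD0s.stab A24.toModel A24.compat_self 23 25
    [(1, [0xbb9517c0a9ad0449ac683b2cd09a40]), (2, [0xbc66ea8ec97d18d52e08388a491820]), (3,
    [0xbaeae9c1522d18db4464399e848820]), (4, [0xbae957b6289ba44b1cd0524ac18820])]
    660 (by decide : 23 < 24) (by decide +kernel)).copy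
    (stabilizer M24 d0 ⊓ stabilizer M24 (some 0 : GolayPt) ⊓ stabilizer M24 (none : GolayPt)) rfl

/-- the stabiliser of `d0, 0, ∞, 5`. -/
noncomputable def SD0n5 : CSub A24 :=
  SD0n.stab A24.toModel A24.compat_self 5 25
    [(1, [0xbceaa8b2c672e4d79c49a04a41a200]), (2, [0xbae75734e2a3d8354606b24b222020]), (4,
    [0xbae957b6289ba44b1cd0524ac18820])]
    60 (by decide : 5 < 24) (by decide +kernel)

/-- the stabiliser of `d0, 0, ∞, 5, 7`. -/
noncomputable def SD0n7 : CSub A24 :=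
  SD0n5.stab A24.toModel A24.compat_self 7 25
    [(2, [0xbbd5574ac98ad849d026388ad1a200]), (1, [0xbd9cb50de18d48ca4d263a0ad90a00])]
    6 (by decide : 7 < 24) (by decide +kernel)

/-- the stabiliser of `o0` and of the point `4`. -/
noncomputable def SOp : CSub A24 :=
  (SOs.stab A24.toModel A24.compat_self 4 25
    [(0, [0x8be4a3240785d155cd8db50a40886e]), (1, [0x128e8650299decf84aad32c642ba20]), (2,
    [0x2be8cb34689c4f55aa099184475c20]), (3, [0x1b1a8926ea838ebb3e66ad0a488820]), (5,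
    [0x8adb2452ef816acb28d33a5c418820]), (6, [0x8bcd6925d5a5d674326d540a418820])]
    20160 (by decide : 4 < 24) (by decide +kernel)).copy
    (stabilizer M24 o0 ⊓ stabilizer M24 (some 4 : GolayPt)) rfl

theorem S18_K : S18.K = S19.K ⊓ stabilizer M24 (some 5 : GolayPt) := rfl
theorem S6n_K : S6n.K = S19.K ⊓ stabilizer M24 (some 4 : GolayPt) := rfl
theorem SD1_K : SD1.K = stabilizer M24 d0 ⊓ stabilizer M24 (some 0 : GolayPt) ⊓
    stabilizer M24 (some 1 : GolayPt) := rfl
theorem SD2_K : SD2.K = stabilizer M24 d0 ⊓ stabilizer M24 (some 0 : GolayPt) ⊓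
    stabilizer M24 (some 1 : GolayPt) ⊓ stabilizer M24 (some 2 : GolayPt) := rfl
theorem SD3_K : SD3.K = SD2.K ⊓ stabilizer M24 (some 3 : GolayPt) := rfl
theorem SD4_K : SD4.K = SD3.K ⊓ stabilizer M24 (some 4 : GolayPt) := rfl
theorem SD0n_K : SD0n.K = stabilizer M24 d0 ⊓ stabilizer M24 (some 0 : GolayPt) ⊓
    stabilizer M24 (none : GolayPt) := rfl
theorem SOp_K : SOp.K = stabilizer M24 o0 ⊓ stabilizer M24 (some 4 : GolayPt) := rfl

theorem mem_S19 {g : M24} : g ∈ S19.K ↔ ∀ i, g • base5 i = base5 i :=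
  ⟨fun h i => by fin_cases i; exacts [h.1.1.1.1, h.1.1.1.2, h.1.1.2, h.1.2, h.2],
    fun h => ⟨⟨⟨⟨h 0, h 1⟩, h 2⟩, h 3⟩, h 4⟩⟩

/-- the mask of the fixed points of a table. -/
noncomputable def fixM (T : ℕ) : ℕ := orLt 24 fun i => Bool.rec 0 (two i) (Nat.beq (get 5 T i) i)

theorem fixM_lt (T : ℕ) : fixM T < 2 ^ 24 := by
  apply Nat.lt_pow_two_of_testBit
  intro j hj
  rw [Bool.eq_false_iff]
  intro h
  obtain ⟨i, hi, h⟩ := (testBit_orLt _ _ _).mp h
  revert h
  cases Nat.beq (get 5 T i) i <;> simp [testBit_two]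
  omega

theorem mem_fixM {T : ℕ} (hT : A24.ok T) {p : GolayPt} : p ∈ gC.set (fixM T) ↔ A24.el T • p = p := by
  have hp : gC.idx p < 24 := gC.idx_lt p
  conv_rhs => rw [← gC.pt_idx p, A24_smul_pt hT hp,
    gC.pt_eq_iff (isPerm_lt (A24_isPerm hT) hp), gC.idx_pt _ hp, ← nbeq_iff]
  rw [gC.mem_set, fixM, testBit_orLt]
  constructor
  · rintro ⟨i, -, h⟩
    revert h
    cases hb : Nat.beq (get 5 T i) i <;> simp [testBit_two]
    rintro rfl
    exact nbeq_iff.mp hb
  · intro h
    exact ⟨_, hp, by rw [h]; simp [testBit_two]⟩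

/-- the fixed points of an element of `M24`. -/
def fixP (g : M24) : Finset GolayPt := Finset.univ.filter fun p => (g : Equiv.Perm GolayPt) p = p

theorem mem_fixP {g : M24} {p : GolayPt} : p ∈ fixP g ↔ g • p = p := by simp [fixP, m24_smul_pt]

theorem fixP_el {T : ℕ} (hT : A24.ok T) : fixP (A24.el T) = gC.set (fixM T) :=
  Finset.ext fun _ => mem_fixP.trans (mem_fixM hT).symm

theorem fixP_conj (k g : M24) : fixP (k * g * k⁻¹) = k • fixP g := by
  ext p
  obtain ⟨q, rfl⟩ := MulAction.surjective k p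
  rw [mem_fixP, Finset.smul_mem_smul_finset_iff, mem_fixP, conj_fix_iff]

theorem card_fixP_conj (k g : M24) : (fixP (k * g * k⁻¹)).card = (fixP g).card := by
  rw [fixP_conj, Finset.card_smul_finset]

theorem m24_ext {g : M24} (h : ∀ p : GolayPt, g • p = p) : g = 1 := Subtype.ext (Equiv.ext h)

theorem base5_mem (i : Fin 5) : base5 i ∈ gC.set 0x80000f := by revert i; decide

theorem exists_base5 {p : GolayPt} (h : p ∈ gC.set 0x80000f) : ∃ i, base5 i = p := by
  revert p; decide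

/-- the two orbits of the stabiliser of five points on the other points. -/
theorem S19_orbits {p : GolayPt} (h : p ∉ gC.set 0x80000f) :
    ∃ k ∈ S19.K, k • p = some 5 ∨ k • p = some 4 := by
  have hp : gC.idx p < 24 := gC.idx_lt p
  have h5 := S19.mem_orbit_iff A24.toModel A24.compat_self (c := 5) (fuel := 25) (U := 0x24020)
    (by decide : 5 < 24) (by decide +kernel) hp
  have h4 := S19.mem_orbit_iff A24.toModel A24.compat_self (c := 4) (fuel := 25) (U := 0x7dbfd0)
    (by decide : 4 < 24) (by decide +kernel) hp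
  have : (0x24020 : ℕ).testBit (gC.idx p) = true ∨ (0x7dbfd0 : ℕ).testBit (gC.idx p) = true := by
    clear h4 h5 hp; revert p; decide
  rcases this with h' | h'
  · obtain ⟨k, hk, e⟩ := exists_smul_of_mem_orbit (h5.mpr h') (mem_orbit_self _)
    exact ⟨k, hk, Or.inl ((congrArg (k • ·) (gC.pt_idx p)).symm.trans e)⟩
  · obtain ⟨k, hk, e⟩ := exists_smul_of_mem_orbit (h4.mpr h') (mem_orbit_self _)
    exact ⟨k, hk, Or.inr ((congrArg (k • ·) (gC.pt_idx p)).symm.trans e)⟩

/-- five points and a sixth one. -/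
theorem m24_five_one (x : Fin 5 ↪ GolayPt) {p : GolayPt} (hp : ∀ i, x i ≠ p) :
    ∃ k : M24, (∀ i, k • x i = base5 i) ∧ (k • p = some 5 ∨ k • p = some 4) := by
  obtain ⟨g, hg⟩ := m24_five x base5
  obtain ⟨k, hk, h⟩ := S19_orbits (p := g • p) fun h => by
    obtain ⟨i, hi⟩ := exists_base5 h
    exact hp i (MulAction.injective g ((hg i).trans hi))
  exact ⟨k * g, fun i => by rw [mul_smul, hg, mem_S19.mp hk], by rwa [mul_smul]⟩

theorem S6n_fix {g : M24} (hg : g ∈ S6n.K) : g = 1 ∨ fixP g = gC.set 0x80001f := by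
  obtain ⟨T, hT, rfl, h⟩ := S6n.forall_el (lv := [(5, [0xbdab49ca307b9ac5a928398a418820, 0xbb5135bdd63160aa1ea964a2418820, 0xbc12ba18ad946c79b11553dc418820])])
    (by decide +kernel) (p := fun T => bor (Nat.beq T A24.one) (Nat.beq (fixM T) 0x80001f))
    (by decide +kernel) hg
  rw [bor_iff, ← A24.el_eq_one_iff hT, nbeq_iff] at h
  exact h.imp id fun h => by rw [fixP_el hT, h]

/-- the transversals of `S18`. -/
def e18 : List (ℕ × List ℕ) :=
  [(4, [0xbdab49ca307b9ac5a928398a418820, 0xb926faa22da3a0b6255231cb618820,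
    0xba1474922b3398d85676a3cb218820, 0xbd17661a2a23933ac1a7448af18820,
    0xba91094e346b9e63d8955b0a918820, 0xbc92655a2c3b9706cea47d0a818820,
    0xbbd8459e29b39559b606920b418820, 0xba64d4562f83a87312d362caa18820,
    0xb9e086be3593a6952d94b10a618820, 0xbd6cb22627638cfa224a834b318820,
    0xbc0ea332364b892451ebaccad18820, 0xb99b28523343aaa4b16f258a718820,
    0xbcc8cb2a265b8f47c9096c0b518820, 0xbb4c93ae2453ac893e8c9d4b018820,
    0xbae957b6289ba44b1cd0524ac18820, 0xbb1f3a4232ab916218ed4a8ab18820])]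

theorem e18_chk : S18.enumChk e18 = true := by decide +kernel

theorem S18_fix {g : M24} (hg : g ∈ S18.K) : g * g = 1 ∧ (g = 1 ∨ fixP g = o0) := by
  obtain ⟨T, hT, rfl, h⟩ := S18.forall_el e18_chk (p := fun T => band
    (Nat.beq (A24.mul T T) A24.one) (bor (Nat.beq T A24.one) (Nat.beq (fixM T) 0x82402f)))
    (by decide +kernel) hg
  rw [band_iff, bor_iff, ← A24.el_eq_one_iff hT, ← A24.el_eq_one_iff (A24.ok_mul _ _ hT hT),
    A24.el_mul _ _ hT hT, nbeq_iff] at h
  exact ⟨h.1, h.2.imp id fun h => by rw [fixP_el hT, h, o0]⟩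

theorem mem_S18 {g : M24} : g ∈ S18.K ↔ ∀ p ∈ o0, g • p = p := by
  constructor
  · intro h p hp
    rcases (S18_fix h).2 with rfl | e
    · exact one_smul _ _
    · exact mem_fixP.mp (e ▸ hp)
  · intro h
    exact ⟨mem_S19.mpr fun i => h _ (by revert i; decide), h _ (by decide)⟩

/-- the fixed points of a non-identity element: at most six, or contained in an octad. -/
theorem fixP_cases (g : M24) : g = 1 ∨ (fixP g).card ≤ 6 ∨ fixP g ∈ octads := by
  by_cases h : (fixP g).card ≤ 6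
  · exact Or.inr (Or.inl h)
  obtain ⟨E, hE, hE6⟩ := Finset.exists_subset_card_eq (s := fixP g) (n := 6) (by omega)
  let e := (E.equivFinOfCardEq hE6).symm
  have hfix : ∀ i, g • (e i : GolayPt) = e i := fun i => mem_fixP.mp (hE (e i).2)
  obtain ⟨k, h1, h2⟩ := m24_five_one ⟨fun i => e i.castSucc, Subtype.val_injective.comp
    (e.injective.comp (Fin.castSucc_injective 5))⟩ (p := e 5) fun i hi =>
      (Fin.castSucc_lt_last i).ne (e.injective (Subtype.ext hi))
  have h3 : k * g * k⁻¹ ∈ S19.K := mem_S19.mpr fun i => by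
    rw [← h1 i]; exact (conj_fix_iff k g _).mpr (hfix _)
  have h4 : (k * g * k⁻¹) • k • (e 5 : GolayPt) = k • (e 5 : GolayPt) :=
    (conj_fix_iff k g _).mpr (hfix _)
  have h5 : k * g * k⁻¹ = 1 → g = 1 := fun h => by simpa using h
  rcases h2 with h2 | h2 <;> rw [h2] at h4
  · refine (S18_fix ⟨h3, h4⟩).2.imp h5 fun h6 => Or.inr ?_
    rw [← m24_smul_octads k, ← fixP_conj, h6]
    exact o0_mem
  · refine (S6n_fix ⟨h3, h4⟩).imp h5 fun h6 => Or.inl ?_
    rw [← card_fixP_conj k, h6]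
    decide

/-- an element fixing seven points that do not lie in an octad is trivial. -/
theorem eq_one_of_fix {g : M24} {P : Finset GolayPt} (h : ∀ p ∈ P, g • p = p) (h7 : 7 ≤ P.card)
    (ho : ∀ o ∈ octads, ¬ P ⊆ o) : g = 1 := by
  have hP : P ⊆ fixP g := fun p hp => mem_fixP.mpr (h p hp)
  rcases fixP_cases g with h1 | h1 | h1
  · exact h1
  · exact absurd (Finset.card_le_card hP) (by omega)
  · exact absurd hP (ho _ h1)

theorem eq_one_of_fix9 {g : M24} {P : Finset GolayPt} (h : ∀ p ∈ P, g • p = p) (h9 : 9 ≤ P.card) :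
    g = 1 :=
  eq_one_of_fix h (by omega) fun o ho hP => by
    have := Finset.card_le_card hP
    rw [ho.2] at this
    omega

theorem card_fixP_le {g : M24} (h : g ≠ 1) : (fixP g).card ≤ 8 := by
  by_contra hc
  exact h (eq_one_of_fix9 (fun _ => mem_fixP.mp) (by omega))

theorem eq_one_of_fix_mask {g : M24} (m : ℕ) (h9 : Nat.ble 9 (pop24 m) = true)
    (h : ∀ p ∈ gC.set m, g • p = p) : g = 1 :=
  eq_one_of_fix9 h (card_gset m ▸ nble_iff.mp h9)

/-! ### the dodecad stabiliser -/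

/-- five points of the dodecad of squares. -/
def dbase5 : Fin 5 ↪ GolayPt := ⟨![some 0, some 1, some 2, some 3, some 4], by decide⟩

theorem card_d0 : d0.card = 12 := d0_mem.2

theorem eq_one_of_SD4 {g : M24} (hg : g ∈ stabilizer M24 d0) (h : ∀ i, g • dbase5 i = dbase5 i) :
    g = 1 := by
  have : g ∈ SD4.K := ⟨⟨⟨⟨⟨hg, h 0⟩, h 1⟩, h 2⟩, h 3⟩, h 4⟩
  rwa [Subgroup.eq_bot_of_card_eq _ SD4.card_eq] at this

theorem m12_five {d : Finset GolayPt} (hd : d ∈ dodecads) (x y : Fin 5 ↪ GolayPt)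
    (hx : ∀ i, x i ∈ d) (hy : ∀ i, y i ∈ d) : ∃ g ∈ stabilizer M24 d, ∀ i, g • x i = y i := by
  obtain ⟨k, rfl⟩ := m24_dodecad d0_mem hd
  refine exists_smul_emb (L := ⊥) (D := k • d0) (fun g hg p hp => smul_mem_of_stab hg hp)
    (k • dbase5) (fun i => Finset.smul_mem_smul_finset (by revert i; decide))
    (fun g hg h => ?_) ?_ x y hx hy
  · have := eq_one_of_SD4 (conj_inv_mem_stabilizer hg) fun i => by
      have : g • k • dbase5 i = k • dbase5 i := h i
      rw [mul_smul, mul_smul, this, inv_smul_smul]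
    rw [Subgroup.mem_bot]
    simpa [mul_assoc, inv_mul_eq_one] using this
  · rw [hd.2, Subgroup.card_bot, ← Nat.card_congr
      (stabilizerEquivStabilizer (g := k) (a := d0) rfl).toEquiv, ← SD_K, SD.card_eq]
    decide +kernel

theorem dbase5_mem (i : Fin 5) : dbase5 i ∈ d0 := by revert i; decide

theorem m12_sharp {d : Finset GolayPt} (hd : d ∈ dodecads) (x : Fin 5 ↪ GolayPt)
    (hx : ∀ i, x i ∈ d) {g : M24} (hg : g ∈ stabilizer M24 d) (h : ∀ i, g • x i = x i) : g = 1 := by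
  obtain ⟨k, rfl⟩ := m24_dodecad d0_mem hd
  obtain ⟨u, hu, e⟩ := m12_five hd (k • dbase5) x
    (fun i => Finset.smul_mem_smul_finset (dbase5_mem i)) hx
  have := eq_one_of_SD4 (conj_inv_mem_stabilizer (Subgroup.mul_mem _
    (Subgroup.mul_mem _ (Subgroup.inv_mem _ hu) hg) hu)) fun i => by
      have : u • k • dbase5 i = x i := e i
      simp only [mul_smul]
      rw [this, h, ← this, inv_smul_smul, inv_smul_smul]
  calc g = u * k * (k⁻¹ * (u⁻¹ * g * u) * k) * (u * k)⁻¹ := by group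
    _ = 1 := by rw [this]; group

theorem m12_emb {d : Finset GolayPt} (hd : d ∈ dodecads) {k : ℕ} (hk : k ≤ 5)
    (x y : Fin k → GolayPt) (hx : Function.Injective x) (hy : Function.Injective y)
    (hxd : ∀ i, x i ∈ d) (hyd : ∀ i, y i ∈ d) : ∃ g ∈ stabilizer M24 d, ∀ i, g • x i = y i := by
  have ext : ∀ x : Fin k → GolayPt, Function.Injective x → (∀ i, x i ∈ d) →
      ∃ x' : Fin 5 ↪ GolayPt, (∀ i, x' i ∈ d) ∧ ∀ i, x' (Fin.castLE hk i) = x i := by
    intro x hx hxd
    obtain ⟨f, hf⟩ := Fin.Embedding.restrictSurjective_of_le_natCard (α := d) hk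
      (by rw [Nat.card_eq_fintype_card, Fintype.card_coe, hd.2]; norm_num)
      ⟨fun i => ⟨x i, hxd i⟩, fun i j e => hx (congrArg Subtype.val e)⟩
    exact ⟨f.trans (Function.Embedding.subtype _), fun i => (f i).2,
      fun i => congrArg Subtype.val (DFunLike.congr_fun hf i)⟩
  obtain ⟨x', h1, h2⟩ := ext x hx hxd
  obtain ⟨y', h3, h4⟩ := ext y hy hyd
  obtain ⟨g, hg, h⟩ := m12_five hd x' y' h1 h3
  exact ⟨g, hg, fun i => by rw [← h2, ← h4, h]⟩

theorem m12_one {d : Finset GolayPt} (hd : d ∈ dodecads) {p q : GolayPt} (hp : p ∈ d) (hq : q ∈ d) :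
    ∃ g ∈ stabilizer M24 d, g • p = q := by
  obtain ⟨g, hg, h⟩ := m12_emb hd (k := 1) (by norm_num) ![p] ![q]
    (Function.injective_of_subsingleton _) (Function.injective_of_subsingleton _)
    (by simpa) (by simpa)
  exact ⟨g, hg, h 0⟩

/-- a dodecad and some of its points can be moved to the standard position. -/
theorem m24_dod_emb {d : Finset GolayPt} (hd : d ∈ dodecads) {k : ℕ} (hk : k ≤ 5)
    (x y : Fin k → GolayPt) (hx : Function.Injective x) (hy : Function.Injective y)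
    (hxd : ∀ i, x i ∈ d0) (hyd : ∀ i, y i ∈ d) : ∃ g : M24, g • d0 = d ∧ ∀ i, g • x i = y i := by
  obtain ⟨u, rfl⟩ := m24_dodecad d0_mem hd
  obtain ⟨g, hg, h⟩ := m12_emb hd hk (fun i => u • x i) y ((MulAction.injective u).comp hx) hy
    (fun i => Finset.smul_mem_smul_finset (hxd i)) hyd
  exact ⟨g * u, by rw [mul_smul]; exact hg, fun i => by rw [mul_smul]; exact h i⟩

theorem m24_dod_one {d : Finset GolayPt} (hd : d ∈ dodecads) {p : GolayPt} (hp : p ∈ d) :
    ∃ g : M24, g • d0 = d ∧ g • (some 0 : GolayPt) = p := by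
  obtain ⟨g, hg, h⟩ := m24_dod_emb hd (k := 1) (by norm_num) ![some 0] ![p]
    (Function.injective_of_subsingleton _) (Function.injective_of_subsingleton _)
    (by decide) (by simpa)
  exact ⟨g, hg, h 0⟩

theorem m24_dod_three {d : Finset GolayPt} (hd : d ∈ dodecads) {p q r : GolayPt} (hp : p ∈ d)
    (hq : q ∈ d) (hr : r ∈ d) (hpq : p ≠ q) (hpr : p ≠ r) (hqr : q ≠ r) :
    ∃ g : M24, g • d0 = d ∧ g • (some 0 : GolayPt) = p ∧ g • (some 1 : GolayPt) = q ∧
      g • (some 2 : GolayPt) = r := by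
  obtain ⟨g, hg, h⟩ := m24_dod_emb hd (k := 3) (by norm_num) ![some 0, some 1, some 2] ![p, q, r]
    (by decide) (inj3 hpq hpr hqr) (by decide) (fun i => by fin_cases i <;> assumption)
  exact ⟨g, hg, h 0, h 1, h 2⟩

/-- `M11` is 3-transitive on the complementary dodecad. -/
theorem m11_three (x y : Fin 3 ↪ GolayPt) (hx : ∀ i, x i ∉ d0) (hy : ∀ i, y i ∉ d0) :
    ∃ g ∈ SD0.K, ∀ i, g • x i = y i :=
  exists_smul_emb (K := SD0.K) (L := SD0n7.K) (D := d0ᶜ)
    (fun _ hg _ hp => Finset.mem_compl.mpr (smul_not_mem_of_stab hg.1 (Finset.mem_compl.mp hp)))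
    ⟨![none, some 5, some 7], by decide⟩ (by decide) (fun _ hg h => ⟨⟨⟨hg, h 0⟩, h 1⟩, h 2⟩)
    (by rw [Finset.card_compl, card_d0, card_golayPt, SD0n7.card_eq, SD0.card_eq]; decide +kernel)
    x y (fun i => Finset.mem_compl.mpr (hx i)) fun i => Finset.mem_compl.mpr (hy i)

/-! ### simplicity -/

theorem core_of_orbit (S : CSub A24) {c U : ℕ} (hc : c < 24)
    (H : band (Nat.ble 9 (pop24 U))
      (orbRun A24.h (S.gens.map A24.fn) 25 c fun S' _ => Nat.beq S' U) = true) :
    ∀ g ∈ S.K, (∀ k ∈ S.K, g • k • gC.pt c = k • gC.pt c) → g = 1 := fun g _ h =>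
  eq_one_of_fix_mask U (band_iff.mp H).1 fun p hp => by
    obtain ⟨k, hk, e⟩ := mem_orbit_sub.mp ((S.mem_orbit_iff A24.toModel A24.compat_self hc
      (band_iff.mp H).2 (gC.idx_lt p)).mpr (gC.mem_set.mp hp))
    have e' : k • gC.pt c = p := e.trans (gC.pt_idx p)
    rw [← e']
    exact h k hk

theorem isCoatom_subgroupOf_top {G : Type*} [Group G] {H : Subgroup G} (h : IsCoatom H) :
    IsCoatom ((⊤ ⊓ H).subgroupOf ⊤) := by
  refine ((Subgroup.topEquiv (G := G)).mapSubgroup.isCoatom_iff _).mp ?_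
  convert h
  ext g
  simp only [top_inf_eq, MulEquiv.mapSubgroup_apply, Subgroup.mem_map, Subgroup.mem_subgroupOf]
  exact ⟨fun ⟨x, hx, e⟩ => e ▸ hx, fun hg => ⟨⟨g, trivial⟩, hg, rfl⟩⟩

theorem fix_of_pairs {G X : Type*} [Group G] [MulAction G X] [DecidableEq X] {g : G} {S : Finset X}
    (h3 : 3 ≤ S.card) (h : ∀ p ∈ S, ∀ q ∈ S, p ≠ q → g • ({p, q} : Finset X) = {p, q}) :
    ∀ p ∈ S, g • p = p := fun p hp => by
  obtain ⟨q, hq, r, hr, hqr⟩ := Finset.one_lt_card.mp
    (show 1 < (S.erase p).card by rw [Finset.card_erase_of_mem hp]; omega)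
  rw [Finset.mem_erase] at hq hr
  have h1 := smul_mem_of_stab (h p hp q hq.2 hq.1.symm) (Finset.mem_insert_self p {q})
  have h2 := smul_mem_of_stab (h p hp r hr.2 hr.1.symm) (Finset.mem_insert_self p {r})
  simp only [Finset.mem_insert, Finset.mem_singleton] at h1 h2
  rcases h1 with h1 | h1
  · exact h1
  · exact h2.resolve_right fun h2 => hqr (h1.symm.trans h2)

theorem simple_G24 : IsSimpleGroup G24.K :=
  G24.simple SP2 (x := gC.set 0x800001) (top_inf_eq _).symm (isCoatom_subgroupOf_top coatom_SP2)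
    (fun g _ h => m24_ext fun p => fix_of_pairs (S := Finset.univ) (by decide)
      (fun p _ q _ hpq => by
        obtain ⟨k, e⟩ := m24_finset (s := gC.set 0x800001) (t := {p, q}) (by decide)
          (by rw [Finset.card_pair hpq]; decide)
        exact e ▸ h k trivial) p (Finset.mem_univ p))
    (g := 0xb2057d15124ab7b2da79812670903) (u := 0x7a661821c5b2c823dc7489a4a6b2a0) (q := 23)
    (prog := [(1, 1), (0, 2), (0, 3), (0, 4), (0, 5), (0, 6), (0, 7), (0, 8), (0, 9), (0, 10), (0, 11), (0,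
      12), (0, 13), (0, 14), (0, 15), (0, 16), (0, 16), (17, 18), (0, 19), (0, 20), (0, 21), (0, 21),
      (0, 22), (15, 0), (7, 7), (0, 8), (0, 9), (0, 10), (0, 11), (0, 12), (0, 13), (0, 14), (0, 15),
      (0, 16), (0, 17), (0, 18), (0, 19), (0, 20), (0, 21), (0, 22), (0, 23), (0, 24), (0, 25), (0,
      19), (42, 44), (0, 46), (0, 47), (15, 0), (47, 48), (0, 50), (46, 0), (22, 0), (4, 4), (0, 9),
      (0, 6), (0, 7), (0, 12), (0, 5), (8, 59), (0, 59), (55, 0), (23, 0), (5, 0), (19, 5), (0, 6),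
      (0, 2), (67, 66), (0, 67), (0, 68), (53, 0), (45, 0), (15, 23), (0, 1), (8, 0), (9, 16), (9, 0),
      (76, 76), (65, 0), (40, 0), (22, 0), (36, 36), (0, 37), (0, 24), (0, 25), (0, 40), (0, 5), (20,
      20), (0, 21), (0, 22), (0, 15), (0, 16), (0, 5), (44, 48), (0, 49), (0, 46), (0, 47), (30, 22),
      (0, 1), (73, 96), (46, 0), (35, 0), (13, 27), (0, 1), (11, 0), (28, 0), (70, 94), (51, 62), (0,
      1), (25, 64), (0, 51), (0, 52), (0, 3), (24, 0), (15, 37), (0, 38), (0, 2), (62, 72), (0, 90),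
      (37, 0), (32, 45), (0, 1), (6, 0), (46, 0)])
    (by decide +kernel)

theorem simple_S23 : IsSimpleGroup S23s.K :=
  S23s.simple S22s (x := gC.pt 0) rfl
    (S23s.coatom A24.toModel A24.compat_self S22s (c := 0) (fuel := 25) (n := 23)
      (reps := [(0xba4c3734a490aaf38588982cb82a91, 22)]) (by decide : 0 < 24) rfl (by decide +kernel))
    (core_of_orbit S23s (U := 0x7fffff) (by decide) (by decide +kernel))
    (g := 0xbcd855d2a35088f3201069c2eb4931) (u := 0xb85c395149809af8d90c3cc9531560) (q := 23)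
    (prog := [(1, 1), (0, 2), (0, 3), (0, 4), (0, 5), (0, 6), (0, 7), (0, 8), (0, 9), (0, 10), (0, 11), (0,
      11), (9, 12), (0, 13), (0, 14), (4, 16), (0, 1), (17, 18), (0, 19), (0, 19), (0, 20), (0, 21),
      (0, 23), (7, 24), (0, 25), (0, 2), (9, 0), (27, 27), (21, 0), (17, 12), (0, 1), (32, 31), (0,
      32), (0, 34), (0, 35), (0, 36), (0, 37), (12, 38), (0, 39), (0, 2), (28, 28), (0, 24), (0, 30),
      (0, 26), (0, 32), (0, 5), (19, 19), (0, 20), (0, 17), (0, 3), (23, 19), (0, 20), (0, 21), (0,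
      22), (7, 23), (5, 1), (28, 56), (0, 57), (19, 59), (0, 60), (0, 61), (0, 3), (45, 45), (0, 1),
      (17, 0), (9, 0), (16, 16), (0, 13), (13, 41), (27, 52), (0, 45), (18, 0), (5, 0), (7, 7), (0,
      1), (14, 76), (0, 77), (14, 60), (0, 1), (10, 52), (0, 53), (0, 2), (14, 0), (17, 0)])
    (by decide +kernel)

theorem simple_S22 : IsSimpleGroup S22s.K :=
  S22s.simple S21s (x := gC.pt 1) rfl
    (S22s.coatom A24.toModel A24.compat_self S21s (c := 1) (fuel := 25) (n := 22)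
      (reps := [(0xbc9c6456938242c11caa22c6fb3620, 21)]) (by decide : 1 < 24) rfl (by decide +kernel))
    (core_of_orbit S22s (U := 0x7ffffe) (by decide) (by decide +kernel))
    (g := 0xb98f37148aa0a0b0b24d8bc7645520) (u := 0xbca095c5af205d33d44cb155430d00) (q := 11)
    (prog := [(1, 1), (0, 1), (2, 2), (0, 3), (0, 4), (0, 5), (5, 7), (0, 8), (0, 9), (0, 7), (0, 4), (11,
      12), (0, 13), (0, 13), (0, 15), (0, 15), (8, 14), (0, 15), (0, 2), (8, 17), (0, 9), (0, 19), (0,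
      3), (11, 23), (0, 25), (0, 25), (16, 0), (25, 25), (0, 17), (0, 27), (0, 19), (0, 4), (9, 0),
      (0, 1), (11, 14), (26, 36), (0, 37), (9, 35), (0, 36), (0, 28), (0, 3), (7, 18), (0, 1)])
    (by decide +kernel)

theorem simple_SD0 : IsSimpleGroup SD0s.K :=
  SD0s.simple SD1 (x := gC.pt 1) rfl
    (SD0s.coatom A24.toModel A24.compat_self SD1 (c := 1) (fuel := 25) (n := 11)
      (reps := [(0x2d2a7736688dd8252c90b49e130d20, 10)]) (by decide : 1 < 24) rfl (by decide +kernel))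
    (core_of_orbit SD0s (U := 0x05335e) (by decide) (by decide +kernel))
    (g := 0x596ef3b5c6b51238a841a927243200) (u := 0x79e9770d49ad8c8996418b56464040) (q := 11)
    (prog := [(1, 1), (0, 2), (0, 2), (2, 3), (0, 4), (0, 5), (4, 7), (0, 8), (0, 2), (6, 0), (10, 10), (3,
      0), (9, 9), (0, 10), (0, 11), (0, 12), (0, 4), (7, 0), (10, 19), (0, 20), (5, 10), (0, 1), (12,
      12), (0, 13), (0, 2), (8, 6), (8, 8), (0, 1)])
    (by decide +kernel)

theorem simple_SD : IsSimpleGroup SDs.K :=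
  SDs.simple SDp (x := gC.set 3) rfl
    (SDs.coatom m3 compat_m3 SDp (c := 3) (fuel := 67) (n := 66)
      (reps := [(0x3ced1a49c92d48d7aa0cb896602061, 20), (0x3ded48866852cd02d649781c21918d, 45)]) (V_m3 (by decide +kernel)) rfl (by decide +kernel))
    (fun g _ h => eq_one_of_fix9 (fix_of_pairs (S := d0) (by decide) fun p hp q hq hpq => by
      obtain ⟨k, hk, e⟩ := m12_emb d0_mem (k := 2) (by norm_num) ![some 0, some 1] ![p, q]
        (by decide) (inj2 hpq) (by decide) (fun i => by fin_cases i <;> assumption)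
      have e' : k • gC.set 3 = {p, q} := by
        rw [show gC.set 3 = {some 0, some 1} by decide, Finset.smul_finset_insert,
          Finset.smul_finset_singleton]
        exact congrArg₂ (fun a b => ({a, b} : Finset GolayPt)) (e 0) (e 1)
      exact e' ▸ h k hk) (by decide))
    (g := 0x89eb77114db2d302bccc9ca811a002) (u := 0x55dc75c0a0b4dac7d6498928810cc1) (q := 11)
    (prog := [(1, 0), (2, 2), (0, 3), (0, 4), (0, 5), (0, 6), (0, 6), (0, 6), (8, 8), (3, 0), (9, 11), (12,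
      0), (2, 0), (12, 13), (0, 15), (0, 15), (0, 17), (11, 18), (0, 19), (0, 20), (0, 3), (11, 13),
      (0, 1), (10, 10), (0, 11), (0, 2), (17, 27), (22, 0), (20, 0), (6, 0), (22, 22), (1, 1), (19,
      27), (1, 0), (3, 26), (0, 27), (0, 33), (13, 0), (8, 0), (13, 13), (0, 1)])
    (by decide +kernel)

/-! ### the groups of the prelude -/

/-- `M23` of the prelude. -/
noncomputable def equivM23 : S23s.K ≃* Spor.M23 := subEquiv inf_le_left fun g => ⟨fun h => ⟨g.2, h⟩, fun h => h.2⟩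

/-- `M22` of the prelude. -/
noncomputable def equivM22 : S22s.K ≃* Spor.M22 := subEquiv (inf_le_left.trans inf_le_left) fun g =>
  ⟨fun h => ⟨⟨g.2, h.1⟩, h.2⟩, fun h => ⟨h.1.2, h.2⟩⟩

/-- `M12` of the prelude. -/
noncomputable def equivM12 : SDs.K ≃* Spor.M12 := subEquiv inf_le_left fun g =>
  ⟨fun h => ⟨g.2, d0_eq ▸ h⟩, fun h => (d0_eq ▸ h.2 : (g : Equiv.Perm GolayPt) ∈ stabilizer _ d0)⟩

/-- `M11` of the prelude. -/
noncomputable def equivM11 : SD0s.K ≃* Spor.M11 := subEquiv (inf_le_left.trans inf_le_left) fun g =>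
  ⟨fun h => ⟨⟨g.2, d0_eq ▸ h.1⟩, h.2⟩,
    fun h => ⟨(d0_eq ▸ h.1.2 : (g : Equiv.Perm GolayPt) ∈ stabilizer _ d0), h.2⟩⟩

theorem simple_M24 : IsSimpleGroup M24 :=
  haveI : IsSimpleGroup (⊤ : Subgroup M24) := simple_G24
  (Subgroup.topEquiv (G := M24)).symm.isSimpleGroup

theorem simple_M23 : IsSimpleGroup Spor.M23 := haveI := simple_S23; equivM23.symm.isSimpleGroup
theorem simple_M22 : IsSimpleGroup Spor.M22 := haveI := simple_S22; equivM22.symm.isSimpleGroup
theorem simple_M12 : IsSimpleGroup Spor.M12 := haveI := simple_SD; equivM12.symm.isSimpleGroup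
theorem simple_M11 : IsSimpleGroup Spor.M11 := haveI := simple_SD0; equivM11.symm.isSimpleGroup

theorem card_M23 : Nat.card Spor.M23 = 10200960 :=
  (Nat.card_congr equivM23.toEquiv).symm.trans S23s.card_eq
theorem card_M22 : Nat.card Spor.M22 = 443520 :=
  (Nat.card_congr equivM22.toEquiv).symm.trans S22s.card_eq
theorem card_M12 : Nat.card Spor.M12 = 95040 :=
  (Nat.card_congr equivM12.toEquiv).symm.trans SDs.card_eq
theorem card_M11 : Nat.card Spor.M11 = 7920 :=
  (Nat.card_congr equivM11.toEquiv).symm.trans SD0s.card_eq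

end Cfsg.Agent.H14
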